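import Groth.Agent.CommAlgDim.GlobalDim
import Groth.Agent.S2049
import Mathlib.Algebra.Module.StablyFree.FreeOfInvertible
import Mathlib.RingTheory.PicardGroup
import Mathlib.RingTheory.Flat.TorsionFree
import Mathlib.RingTheory.TensorProduct.Quotient
import Mathlib.RingTheory.LocalRing.ResidueField.Fiber
import Mathlib.RingTheory.Localization.BaseChange

/-!
# Line bundles on the generic fibre over a valuation ring, when the closed fibre is regular
-/

set_option autoImplicit false

universe u

open IsLocalRing CommAlgDim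
open scoped TensorProduct

namespace ValPicLib

variable {R A : Type u} [CommRing R] [IsDomain R] [ValuationRing R] [CommRing A] [Algebra R A]

variable (R A) in
/-- The ideal of the closed fibre. -/
abbrev mA : Ideal A := (maximalIdeal R).map (algebraMap R A)

variable (R A) in
/-- Nonzero scalars of the base act injectively. -/
def TF (M : Type u) [AddCommGroup M] [Module A M] : Prop :=
  ∀ c : R, c ≠ 0 → ∀ x : M, algebraMap R A c • x = 0 → x = 0

theorem add_princ {M : Type u} [AddCommGroup M] [Module A M] {x y : M}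
    (hx : ∃ c ∈ maximalIdeal R, ∃ f : M, x = algebraMap R A c • f)
    (hy : ∃ c ∈ maximalIdeal R, ∃ f : M, y = algebraMap R A c • f) :
    ∃ c ∈ maximalIdeal R, ∃ f : M, x + y = algebraMap R A c • f := by
  obtain ⟨c, hc, f, rfl⟩ := hx
  obtain ⟨c', hc', f', rfl⟩ := hy
  rcases ValuationRing.dvd_total c c' with ⟨d, rfl⟩ | ⟨d, rfl⟩
  · exact ⟨c, hc, f + algebraMap R A d • f', by rw [map_mul, mul_smul, smul_add]⟩
  · exact ⟨c', hc', algebraMap R A d • f + f', by rw [map_mul, mul_smul, smul_add]⟩

theorem princ_mA {a : A} (ha : a ∈ mA R A) : ∃ c ∈ maximalIdeal R, ∃ f : A, a = algebraMap R A c • f := by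
  refine Submodule.span_induction ?_ ?_ ?_ ?_ ha
  · rintro _ ⟨c, hc, rfl⟩
    exact ⟨c, hc, 1, by simp⟩
  · exact ⟨0, zero_mem _, 0, by simp⟩
  · exact fun x y _ _ hx hy => add_princ hx hy
  · rintro b x _ ⟨c, hc, f, rfl⟩
    exact ⟨c, hc, b • f, smul_comm _ _ _⟩

theorem princ_smul_top {M : Type u} [AddCommGroup M] [Module A M] {x : M}
    (hx : x ∈ mA R A • (⊤ : Submodule A M)) : ∃ c ∈ maximalIdeal R, ∃ f : M, x = algebraMap R A c • f := by
  refine Submodule.smul_induction_on hx (fun a ha n _ => ?_) (fun x y hx hy => add_princ hx hy)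
  obtain ⟨c, hc, b, rfl⟩ := princ_mA ha
  exact ⟨c, hc, b • n, smul_assoc _ _ _⟩

theorem smul_mem_smul_top {M : Type u} [AddCommGroup M] [Module A M] {c : R} (hc : c ∈ maximalIdeal R) (f : M) :
    algebraMap R A c • f ∈ mA R A • (⊤ : Submodule A M) :=
  Submodule.smul_mem_smul (Ideal.mem_map_of_mem _ hc) trivial

variable [IsLocalRing A] [IsLocalHom (algebraMap R A)] [Algebra.EssFiniteType R A]

theorem tf_self [Module.Flat R A] : TF R A A := by
  intro c hc x hx
  rw [smul_eq_mul, ← Algebra.smul_def] at hx
  exact (smul_eq_zero.1 hx).resolve_left hc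

theorem finitePresentation_of_tf (M : Type u) [AddCommGroup M] [Module A M] [Module.Finite A M]
    (hM : TF R A M) : Module.FinitePresentation A M := by
  letI : Module R M := Module.compHom M (algebraMap R A)
  haveI : IsScalarTower R A M := ⟨fun r a x => by
    show (r • a) • x = algebraMap R A r • a • x
    rw [Algebra.smul_def, mul_smul]⟩
  haveI : Module.Flat R M := Module.Flat.flat_iff_torsion_eq_bot_of_isBezout.2 <| eq_bot_iff.2 fun x hx => by
    obtain ⟨c, hc⟩ := hx
    exact hM c (nonZeroDivisors.ne_zero c.2) x hc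
  exact Groth.Agent.S2049.result (A := R)

omit [Algebra.EssFiniteType R A] in
theorem mA_le_jacobson : mA R A ≤ (⊥ : Ideal A).jacobson := by
  rw [IsLocalRing.jacobson_eq_maximalIdeal ⊥ bot_ne_top]
  exact ((IsLocalRing.local_hom_TFAE (algebraMap R A)).out 0 2 rfl rfl).mp inferInstance

omit [Algebra.EssFiniteType R A] in
theorem surjective_of_quot (M : Type u) [AddCommGroup M] [Module A M] [Module.Finite A M]
    {F : Type u} [AddCommGroup F] [Module A F] (φ : F →ₗ[A] M)
    (h : ∀ y : M ⧸ (mA R A • (⊤ : Submodule A M)), ∃ x, Submodule.Quotient.mk (φ x) = y) :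
    Function.Surjective φ := by
  rw [← LinearMap.range_eq_top, eq_top_iff]
  refine Submodule.le_of_le_smul_of_le_jacobson_bot Module.Finite.fg_top (mA_le_jacobson (R := R)) fun m _ => ?_
  obtain ⟨x, hx⟩ := h (Submodule.Quotient.mk m)
  have := (Submodule.Quotient.eq _).1 hx
  rw [show m = φ x - (φ x - m) by abel]
  exact sub_mem (Submodule.mem_sup_left ⟨x, rfl⟩) (Submodule.mem_sup_right this)

variable (R) in
/-- The reduction of a map from a free module. -/
noncomputable def red {k : ℕ} {M : Type u} [AddCommGroup M] [Module A M] (φ : (Fin k → A) →ₗ[A] M) :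
    (Fin k → A ⧸ mA R A) →ₗ[A ⧸ mA R A] M ⧸ (mA R A • (⊤ : Submodule A M)) :=
  Fintype.linearCombination (A ⧸ mA R A) (fun i => Submodule.Quotient.mk (φ (fun j => if i = j then 1 else 0)))

variable (R) in
/-- Componentwise reduction. -/
def piMk (k : ℕ) : (Fin k → A) →ₗ[A] (Fin k → A ⧸ mA R A) := (Submodule.mkQ (mA R A)).compLeft (Fin k)

theorem red_piMk {k : ℕ} {M : Type u} [AddCommGroup M] [Module A M] (φ : (Fin k → A) →ₗ[A] M) (v : Fin k → A) :
    red R φ (piMk R k v) = Submodule.Quotient.mk (φ v) := by
  conv_rhs => rw [pi_eq_sum_univ v, map_sum, ← Submodule.mkQ_apply, map_sum]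
  rw [red, Fintype.linearCombination_apply]
  refine Finset.sum_congr rfl fun i _ => ?_
  rw [map_smul, map_smul]
  rfl

theorem piMk_surjective (k : ℕ) : Function.Surjective (piMk R (A := A) k) := fun v =>
  ⟨fun i => (Submodule.mkQ_surjective _ (v i)).choose, funext fun i => (Submodule.mkQ_surjective _ (v i)).choose_spec⟩

theorem exists_ker_equiv {k : ℕ} {M : Type u} [AddCommGroup M] [Module A M] (hM : TF R A M)
    (φ : (Fin k → A) →ₗ[A] M) (hφ : Function.Surjective φ) :
    Nonempty ((LinearMap.ker φ ⧸ (mA R A • (⊤ : Submodule A (LinearMap.ker φ)))) ≃ₗ[A ⧸ mA R A]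
      LinearMap.ker (red R φ)) := by
  let T : LinearMap.ker φ →ₗ[A] LinearMap.ker (red R φ) :=
    { toFun := fun x => ⟨piMk R k x.1, by rw [LinearMap.mem_ker, red_piMk, LinearMap.mem_ker.1 x.2]; rfl⟩
      map_add' := fun x y => Subtype.ext (map_add (piMk R k) x.1 y.1)
      map_smul' := fun a x => Subtype.ext (map_smul (piMk R k) a x.1) }
  have hker : LinearMap.ker T = mA R A • (⊤ : Submodule A (LinearMap.ker φ)) := by
    refine le_antisymm (fun x hx => ?_) (Submodule.smul_le.2 fun a ha n _ => ?_)
    · have hx' : piMk R k x.1 = 0 := congrArg Subtype.val (LinearMap.mem_ker.1 hx)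
      have h1 : x.1 ∈ mA R A • (⊤ : Submodule A (Fin k → A)) := by
        rw [pi_eq_sum_univ x.1]
        exact Submodule.sum_mem _ fun i _ => Submodule.smul_mem_smul
          ((Submodule.Quotient.mk_eq_zero _).1 (congrFun hx' i)) trivial
      obtain ⟨c, hc, f, hf⟩ := princ_smul_top h1
      by_cases hc0 : c = 0
      · rw [hc0, map_zero, zero_smul] at hf
        rw [show x = 0 from Subtype.ext hf]
        exact zero_mem _
      have hfK : φ f = 0 := hM c hc0 _ (by rw [← map_smul, ← hf]; exact x.2)
      rw [show x = algebraMap R A c • (⟨f, hfK⟩ : LinearMap.ker φ) from Subtype.ext hf]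
      exact smul_mem_smul_top hc _
    · rw [LinearMap.mem_ker, map_smul]
      refine Subtype.ext (funext fun i => ?_)
      show a • Submodule.Quotient.mk (n.1 i) = (0 : A ⧸ mA R A)
      rw [← Submodule.Quotient.mk_smul]
      exact (Submodule.Quotient.mk_eq_zero _).2 (Ideal.mul_mem_right _ _ ha)
  have hT : Function.Surjective T := by
    rintro ⟨w, hw⟩
    obtain ⟨v, rfl⟩ := piMk_surjective k w
    rw [LinearMap.mem_ker, red_piMk, Submodule.Quotient.mk_eq_zero] at hw
    obtain ⟨c, hc, m, hm⟩ := princ_smul_top hw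
    obtain ⟨f, rfl⟩ := hφ m
    refine ⟨⟨v - algebraMap R A c • f, by rw [LinearMap.mem_ker, map_sub, map_smul, hm, sub_self]⟩,
      Subtype.ext ?_⟩
    show piMk R k (v - algebraMap R A c • f) = piMk R k v
    rw [map_sub, sub_eq_self]
    funext i
    exact (Submodule.Quotient.mk_eq_zero _).2 (Ideal.mul_mem_right _ _ (Ideal.mem_map_of_mem _ hc))
  let e := (Submodule.quotEquivOfEq _ _ hker.symm).trans (T.quotKerEquivOfSurjective hT)
  exact ⟨e.extendScalarsOfSurjective Ideal.Quotient.mk_surjective⟩

theorem free_of_projective_quot (M : Type u) [AddCommGroup M] [Module A M] [Module.Finite A M] (hM : TF R A M)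
    [Module.Projective (A ⧸ mA R A) (M ⧸ (mA R A • (⊤ : Submodule A M)))] : Module.Free A M := by
  haveI : Nontrivial (A ⧸ mA R A) := Ideal.Quotient.nontrivial_iff.2
    (((mA_le_jacobson (R := R) (A := A)).trans (IsLocalRing.jacobson_eq_maximalIdeal ⊥ bot_ne_top).le).trans_lt
      (inferInstance : (maximalIdeal A).IsMaximal).lt_top).ne
  haveI : IsLocalRing (A ⧸ mA R A) := IsLocalRing.of_surjective' _ Ideal.Quotient.mk_surjective
  haveI : Module.Finite (A ⧸ mA R A) (M ⧸ (mA R A • (⊤ : Submodule A M))) :=
    Module.Finite.of_restrictScalars_finite A _ _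
  haveI : Module.Free (A ⧸ mA R A) (M ⧸ (mA R A • (⊤ : Submodule A M))) := Module.free_of_flat_of_isLocalRing
  let k := Module.finrank (A ⧸ mA R A) (M ⧸ (mA R A • (⊤ : Submodule A M)))
  let b := Module.finBasis (A ⧸ mA R A) (M ⧸ (mA R A • (⊤ : Submodule A M)))
  choose m hm using fun i : Fin k => Submodule.mkQ_surjective _ (b i)
  let φ : (Fin k → A) →ₗ[A] M := Fintype.linearCombination A m
  have hred : red R φ = b.equivFun.symm.toLinearMap := by
    refine LinearMap.ext fun v => ?_
    rw [red, Fintype.linearCombination_apply, LinearEquiv.coe_coe, Module.Basis.equivFun_symm_apply]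
    refine Finset.sum_congr rfl fun i _ => ?_
    rw [← hm i]
    congr 2
    rw [Fintype.linearCombination_apply]
    simp
  have hφ : Function.Surjective φ := surjective_of_quot M φ fun y => by
    obtain ⟨v, hv⟩ := piMk_surjective (R := R) (A := A) k (b.equivFun y)
    refine ⟨v, ?_⟩
    rw [← red_piMk, hv, hred]
    exact b.equivFun.symm_apply_apply y
  haveI := finitePresentation_of_tf M hM
  have hfg : (LinearMap.ker φ).FG := Module.FinitePresentation.fg_ker φ hφ
  haveI : Module.Finite A (LinearMap.ker φ) := Module.Finite.iff_fg.2 hfg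
  obtain ⟨e⟩ := exists_ker_equiv hM φ hφ
  have hbot : LinearMap.ker (red R φ) = ⊥ := by rw [hred]; exact LinearEquiv.ker _
  haveI : Subsingleton (LinearMap.ker (red R φ)) := by rw [hbot]; infer_instance
  haveI : Subsingleton (LinearMap.ker φ ⧸ (mA R A • (⊤ : Submodule A (LinearMap.ker φ)))) := e.toEquiv.subsingleton
  have h0 : (⊤ : Submodule A (LinearMap.ker φ)) = ⊥ :=
    Submodule.eq_bot_of_le_smul_of_le_jacobson_bot (mA R A) ⊤ Module.Finite.fg_top
      (fun x _ => (Submodule.Quotient.mk_eq_zero _).1 (Subsingleton.elim _ _)) (mA_le_jacobson (R := R))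
  have hinj : Function.Injective φ := by
    rw [← LinearMap.ker_eq_bot, eq_bot_iff]
    intro x hx
    have h1 : (⟨x, hx⟩ : LinearMap.ker φ) ∈ (⊤ : Submodule A (LinearMap.ker φ)) := trivial
    rw [h0] at h1
    exact congrArg Subtype.val h1
  exact Module.Free.of_equiv (LinearEquiv.ofBijective φ ⟨hinj, hφ⟩)

variable (R) in
/-- Localised modules of torsion-free modules with reductions of finite projective dimension are stably free. -/
theorem isStablyFree_of_tf [Module.Flat R A] (S : Submonoid A) (B : Type u) [CommRing B] [Algebra A B]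
    [IsLocalization S B] : ∀ (n : ℕ) (M : Type u) [AddCommGroup M] [Module A M] [Module.Finite A M]
      (M' : Type u) [AddCommGroup M'] [Module A M'] [Module B M'] [IsScalarTower A B M'] (f : M →ₗ[A] M')
      [IsLocalizedModule S f] [Module.Projective B M'], TF R A M →
      PDLT (A ⧸ mA R A) (M ⧸ (mA R A • (⊤ : Submodule A M))) (n + 1) → Module.IsStablyFree B M'
  | 0, M, _, _, _, M', _, _, _, _, f, _, _, hM, h => by
    have := pdlt_one_iff.1 h
    have : Module.Free A M := free_of_projective_quot (R := R) M hM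
    have := Module.free_of_isLocalizedModule (Rₛ := B) S f
    infer_instance
  | n + 1, M, _, _, _, M', _, _, _, _, f, _, _, hM, h => by
    obtain ⟨k, φ, hφ⟩ := Module.Finite.exists_fin' A M
    haveI := finitePresentation_of_tf M hM
    haveI : Module.Finite A (LinearMap.ker φ) := Module.Finite.iff_fg.2 (Module.FinitePresentation.fg_ker φ hφ)
    have hK : TF R A (LinearMap.ker φ) := fun c hc x hx =>
      Subtype.ext (funext fun i => tf_self c hc (x.1 i) (congrFun (congrArg Subtype.val hx) i))
    obtain ⟨eK⟩ := exists_ker_equiv hM φ hφ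
    have hred : Function.Surjective (red R φ) := by
      intro y
      obtain ⟨m, rfl⟩ := Submodule.mkQ_surjective _ y
      obtain ⟨v, rfl⟩ := hφ m
      exact ⟨piMk R k v, red_piMk φ v⟩
    let F' := Fin k → B
    let u : (Fin k → A) →ₗ[A] F' := (Algebra.linearMap A B).compLeft (Fin k)
    haveI : IsLocalizedModule S (Algebra.linearMap A B) := inferInstance
    haveI : IsLocalizedModule S u := IsLocalizedModule.pi _ fun _ : Fin k => Algebra.linearMap A B
    let g := IsLocalizedModule.map S u f φ
    let g' : F' →ₗ[B] M' := g.extendScalarsOfIsLocalization S B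
    have hg : Function.Surjective g' := IsLocalizedModule.map_surjective S u f φ hφ
    have := LinearMap.toKerLocalized_isLocalizedModule B S u f φ
    let e : LinearMap.ker g ≃ₗ[A] LinearMap.ker g' :=
      { toFun := fun x => ⟨x.1, x.2⟩
        invFun := fun x => ⟨x.1, x.2⟩
        left_inv := fun _ => rfl
        right_inv := fun _ => rfl
        map_add' := fun _ _ => rfl
        map_smul' := fun _ _ => rfl }
    obtain ⟨s, hs⟩ := Module.projective_lifting_property g' LinearMap.id hg
    let r : F' →ₗ[B] LinearMap.ker g' :=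
      LinearMap.codRestrict _ (LinearMap.id - s.comp g') fun x => by
        simp [LinearMap.mem_ker, ← LinearMap.comp_apply g' s, hs]
    have hr : r.comp (LinearMap.ker g').subtype = LinearMap.id := by
      refine LinearMap.ext fun x => Subtype.ext ?_
      simp [r, LinearMap.mem_ker.1 x.2]
    have : Module.Projective B (LinearMap.ker g') := Module.Projective.of_split _ r hr
    have : IsLocalizedModule S (e.toLinearMap ∘ₗ LinearMap.toKerIsLocalized S u f φ) :=
      IsLocalizedModule.of_linearEquiv S _ e
    have hpd : PDLT (A ⧸ mA R A) (LinearMap.ker φ ⧸ (mA R A • (⊤ : Submodule A (LinearMap.ker φ)))) (n + 1) :=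
      ((pdlt_ker_iff (red R φ) hred n).1 h).of_equiv eK.symm
    have hS := isStablyFree_of_tf S B n (LinearMap.ker φ) (LinearMap.ker g')
      (e.toLinearMap ∘ₗ LinearMap.toKerIsLocalized S u f φ) hK hpd
    obtain ⟨N, _, _, _, _, _⟩ := hS.exist_free_prod
    have : Module.Finite B (LinearMap.ker g') :=
      Module.Finite.of_surjective r fun x => ⟨x.1, LinearMap.congr_fun hr x⟩
    let e' : F' ≃ₗ[B] M' × LinearMap.ker g' :=
      LinearEquiv.ofLinear (g'.prod r) (LinearMap.coprod s (LinearMap.ker g').subtype)
        (by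
          refine LinearMap.ext fun ⟨x, y⟩ => Prod.ext ?_ (Subtype.ext ?_)
          · simp [← LinearMap.comp_apply g' s, hs, LinearMap.mem_ker.1 y.2]
          · simp [r, ← LinearMap.comp_apply g' s, hs, LinearMap.mem_ker.1 y.2])
        (by
          refine LinearMap.ext fun x => ?_
          simp [r])
    have : Module.Free B (M' × (LinearMap.ker g' × N)) :=
      Module.Free.of_equiv ((e'.prodCongr (LinearEquiv.refl _ N)).trans
        (LinearEquiv.prodAssoc B M' (LinearMap.ker g') N))
    exact Module.IsStablyFree.of_free_prod B M' (LinearMap.ker g' × N)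

theorem subsingleton_pic_localization [Module.Flat R A] (hreg : IsRegularLocalRing (A ⧸ mA R A))
    (B : Type u) [CommRing B] [Algebra A B]
    [IsLocalization (Algebra.algebraMapSubmonoid A (nonZeroDivisors R)) B] : Subsingleton (CommRing.Pic B) := by
  rw [CommRing.Pic.subsingleton_iff]
  intro L _ _ _
  letI : Module A L := Module.compHom L (algebraMap A B)
  haveI : IsScalarTower A B L := ⟨fun a b x => by
    show (a • b) • x = algebraMap A B a • b • x
    rw [Algebra.smul_def, mul_smul]⟩
  set S := Algebra.algebraMapSubmonoid A (nonZeroDivisors R)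
  haveI : Module.Finite B L := inferInstance
  obtain ⟨s, hs⟩ := Module.Finite.fg_top (R := B) (M := L)
  let M : Submodule A L := Submodule.span A (s : Set L)
  haveI : Module.Finite A M := Module.Finite.span_of_finite A s.finite_toSet
  have hunit : ∀ (t : S) (x : L), (t : A) • x = 0 → x = 0 := fun t x hx => by
    rw [← algebraMap_smul B (t : A) x] at hx
    exact ((IsLocalization.map_units B t).smul_eq_zero).1 hx
  have hM : TF R A M := fun c hc x hx =>
    Subtype.ext (hunit ⟨_, c, mem_nonZeroDivisors_of_ne_zero hc, rfl⟩ x.1 (congrArg Subtype.val hx))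
  haveI : IsLocalizedModule S M.subtype :=
    { map_units := fun t => by
        refine (Module.End.isUnit_iff _).2 ⟨fun x y hxy => ?_, fun y => ?_⟩
        · exact sub_eq_zero.1 (hunit t _ (by rw [smul_sub]; exact sub_eq_zero.2 hxy))
        · obtain ⟨b, hb⟩ := (IsLocalization.map_units B t).exists_right_inv
          refine ⟨b • y, ?_⟩
          show (t : A) • b • y = y
          rw [← algebraMap_smul B (t : A) (b • y), smul_smul, hb, one_smul]
      surj := fun y => by
        have hy : y ∈ Submodule.span B (s : Set L) := by rw [hs]; trivial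
        induction hy using Submodule.span_induction with
        | mem x hx => exact ⟨(⟨x, Submodule.subset_span hx⟩, 1), one_smul _ _⟩
        | zero => exact ⟨(0, 1), by simp⟩
        | add x y _ _ hx hy =>
          obtain ⟨⟨a, t⟩, ha⟩ := hx
          obtain ⟨⟨a', t'⟩, ha'⟩ := hy
          refine ⟨((t' : A) • a + (t : A) • a', t * t'), ?_⟩
          rw [map_add, map_smul, map_smul, ← ha, ← ha', Submonoid.smul_def, Submonoid.smul_def, Submonoid.smul_def,
            Submonoid.coe_mul, smul_smul, smul_smul, smul_add, mul_comm (t : A) (t' : A)]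
        | smul b x _ hx =>
          obtain ⟨⟨a, t⟩, ha⟩ := hx
          obtain ⟨p, q, rfl⟩ := IsLocalization.exists_mk'_eq S b
          refine ⟨(p • a, q * t), ?_⟩
          rw [map_smul, ← ha, Submonoid.smul_def, Submonoid.smul_def, Submonoid.coe_mul,
            ← algebraMap_smul B ((q : A) * t), ← algebraMap_smul B (t : A) x, ← algebraMap_smul B p, smul_smul,
            smul_smul, map_mul, mul_right_comm, IsLocalization.mk'_spec']
      exists_of_eq := fun {x y} h => ⟨1, by rw [one_smul, one_smul]; exact Subtype.ext h⟩ }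
  haveI : Module.Finite (A ⧸ mA R A) (M ⧸ (mA R A • (⊤ : Submodule A M))) :=
    Module.Finite.of_restrictScalars_finite A _ _
  haveI := isStablyFree_of_tf R S B _ M L M.subtype hM
    (pdlt_of_isRegularLocalRing (A ⧸ mA R A) _)
  exact Module.free_of_isStablyFree_of_invertible B L

set_option backward.isDefEq.respectTransparency false in
theorem isRegularLocalRing_quot (hreg : IsRegularRing (ResidueField R ⊗[R] A)) :
    IsRegularLocalRing (A ⧸ mA R A) := by
  haveI := hreg
  haveI : IsRegularLocalRing (ResidueField R ⊗[R] A) := IsRegularLocalRing.of_isRegularRing_of_isLocalRing _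
  let e : ResidueField R ⊗[R] A ≃ₐ[R] A ⧸ mA R A :=
    (Algebra.TensorProduct.comm _ _ _).trans
      ((Algebra.TensorProduct.quotIdealMapEquivTensorQuot A (maximalIdeal R)).symm.restrictScalars _)
  exact IsRegularLocalRing.of_ringEquiv e.toRingEquiv

attribute [local instance] Algebra.TensorProduct.rightAlgebra in
theorem main [Module.Flat R A] (hreg : IsRegularRing (ResidueField R ⊗[R] A)) :
    Subsingleton (CommRing.Pic (FractionRing R ⊗[R] A)) :=
  subsingleton_pic_localization (R := R) (A := A) (isRegularLocalRing_quot hreg) _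

end ValPicLib
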